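import Cfsg.Agent.Lib.Spor.J4Out.Elem
import Cfsg.Agent.Lib.Spor.J4Lower.Data

/-!
In any finite quotient of `J4` with the same kernel as the representation of degree 112: elements of
order 29, 31, 37, 43 and a subgroup of order `11^3`.
-/

set_option autoImplicit false
set_option maxRecDepth 100000

namespace CfsgLib.Spor.J4Lower

open Cfsg.Spor CfsgLib.Spor.J4Rep CfsgLib.Spor.J4Out

theorem rep_w29 : rep (wval w29 ^ 29) = rep 1 :=
  ((Img.word (w := w29) (P := evalB w29) (by decide +kernel)).pow 29).eq Img.one (by decide +kernel)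

theorem rep_w29_ne : rep (wval w29) ≠ rep 1 :=
  (Img.word (w := w29) (P := evalB w29) (by decide +kernel)).ne Img.one (by decide +kernel)

theorem rep_w31 : rep (wval w31 ^ 31) = rep 1 :=
  ((Img.word (w := w31) (P := evalB w31) (by decide +kernel)).pow 31).eq Img.one (by decide +kernel)

theorem rep_w31_ne : rep (wval w31) ≠ rep 1 :=
  (Img.word (w := w31) (P := evalB w31) (by decide +kernel)).ne Img.one (by decide +kernel)

theorem rep_w37 : rep (wval w37 ^ 37) = rep 1 :=
  ((Img.word (w := w37) (P := evalB w37) (by decide +kernel)).pow 37).eq Img.one (by decide +kernel)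

theorem rep_w37_ne : rep (wval w37) ≠ rep 1 :=
  (Img.word (w := w37) (P := evalB w37) (by decide +kernel)).ne Img.one (by decide +kernel)

theorem rep_w43 : rep (wval w43 ^ 43) = rep 1 :=
  ((Img.word (w := w43) (P := evalB w43) (by decide +kernel)).pow 43).eq Img.one (by decide +kernel)

theorem rep_w43_ne : rep (wval w43) ≠ rep 1 :=
  (Img.word (w := w43) (P := evalB w43) (by decide +kernel)).ne Img.one (by decide +kernel)

/-- the third generator of the Sylow 11-subgroup -/
def su : J4 := wval uW * eb * (wval uW)⁻¹ * eb⁻¹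

/-- its packed image -/
def suB : ℕ := mulB 112 (mulB 112 (mulB 112 pU pB) pUi) pBi

theorem img_u : Img (wval uW) pU := Img.word (by decide +kernel)

theorem img_su : Img su suB :=
  ((img_u.mul img_b).mul (img_u.inv (by decide +kernel))).mul img_bi

/-- the element `k` -/
def sk : J4 := ee * eb ^ 11

theorem img_sk : Img sk (mulB 112 pE (powB pB 11)) := img_e.mul (img_b.pow 11)

theorem rep_su11 : rep (su ^ 11) = rep 1 := (img_su.pow 11).eq Img.one (by decide +kernel)

theorem rep_su_k : rep (su * sk) = rep (sk * su) :=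
  (img_su.mul img_sk).eq (img_sk.mul img_su) (by decide +kernel)

theorem rep_h_k : rep (eh * sk) = rep (sk * eh) :=
  (img_h.mul img_sk).eq (img_sk.mul img_h) (by decide +kernel)

theorem rep_su_h : rep (su * eh) = rep (eh * sk ^ 2 * su) :=
  (img_su.mul img_h).eq ((img_h.mul (img_sk.pow 2)).mul img_su) (by decide +kernel)

theorem rep_h11 : rep (eh ^ 11) = rep 1 := (img_h.pow 11).eq Img.one (by decide +kernel)

theorem rep_sk11 : rep (sk ^ 11) = rep 1 := (img_sk.pow 11).eq Img.one (by decide +kernel)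

theorem rep_su_notin : ∀ i < 11, ∀ j < 11, rep su ≠ rep (eh ^ i * sk ^ j) := by
  intro i hi j hj
  refine img_su.ne ((img_h.pow i).mul (img_sk.pow j)) ?_
  revert j; revert i
  decide +kernel

theorem rep_sk_notin : ∀ i < 11, rep sk ≠ rep (eh ^ i) := rep_k_notin

variable {G : Type*} [Group G] [Finite G] (r : J4 →* G) (hr : ∀ u w : J4, r u = r w ↔ rep u = rep w)
include hr

theorem prime_dvd {q : ℕ} (hq : q.Prime) {g : J4} (h1 : rep (g ^ q) = rep 1) (h2 : rep g ≠ rep 1) :
    q ∣ Nat.card G := by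
  have : Fact q.Prime := ⟨hq⟩
  have e : orderOf (r g) = q := orderOf_eq_prime
    (by rw [← map_pow, (hr _ _).2 h1, map_one]) (fun h => h2 ((hr _ _).1 (by rw [h, map_one])))
  exact e ▸ orderOf_dvd_natCard (r g)

theorem eleven_cube_dvd : 1331 ∣ Nat.card G := by
  have : Fact (Nat.Prime 11) := ⟨by norm_num⟩
  set h := r eh
  set k := r sk
  set u := r su
  have hh : h ^ 11 = 1 := by rw [← map_pow, (hr _ _).2 rep_h11, map_one]
  have hk : k ^ 11 = 1 := by rw [← map_pow, (hr _ _).2 rep_sk11, map_one]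
  have hu : u ^ 11 = 1 := by rw [← map_pow, (hr _ _).2 rep_su11, map_one]
  have chk : Commute h k := by
    show r eh * r sk = r sk * r eh
    rw [← map_mul, ← map_mul, (hr _ _).2 rep_h_k]
  have cuk : Commute u k := by
    show r su * r sk = r sk * r su
    rw [← map_mul, ← map_mul, (hr _ _).2 rep_su_k]
  have huh : u * h = h * k ^ 2 * u := by
    show r su * r eh = r eh * r sk ^ 2 * r su
    rw [← map_mul, ← map_pow, ← map_mul, ← map_mul, (hr _ _).2 rep_su_h]
  have huh' : ∀ i : ℕ, u * h ^ i = h ^ i * k ^ (2 * i) * u := by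
    intro i
    induction i with
    | zero => simp
    | succ i ih =>
      calc u * h ^ (i + 1) = (u * h ^ i) * h := by rw [pow_succ, mul_assoc]
        _ = h ^ i * k ^ (2 * i) * (u * h) := by rw [ih, mul_assoc]
        _ = h ^ i * (k ^ (2 * i) * h) * k ^ 2 * u := by rw [huh]; simp only [mul_assoc]
        _ = h ^ i * (h * k ^ (2 * i)) * k ^ 2 * u := by rw [(chk.symm.pow_left (2 * i)).eq]
        _ = h ^ (i + 1) * k ^ (2 * (i + 1)) * u := by
          rw [pow_succ h i, show 2 * (i + 1) = 2 * i + 2 by ring, pow_add k]; simp only [mul_assoc]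
  have hul : ∀ l i : ℕ, u ^ l * h ^ i = h ^ i * k ^ (2 * i * l) * u ^ l := by
    intro l i
    induction l with
    | zero => simp
    | succ l ih =>
      calc u ^ (l + 1) * h ^ i = u * (u ^ l * h ^ i) := by rw [pow_succ', mul_assoc]
        _ = (u * h ^ i) * k ^ (2 * i * l) * u ^ l := by rw [ih]; simp only [mul_assoc]
        _ = h ^ i * k ^ (2 * i) * (u * k ^ (2 * i * l)) * u ^ l := by
          rw [huh']; simp only [mul_assoc]
        _ = h ^ i * k ^ (2 * i) * (k ^ (2 * i * l) * u) * u ^ l := by rw [(cuk.pow_right _).eq]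
        _ = h ^ i * k ^ (2 * i * (l + 1)) * u ^ (l + 1) := by
          rw [pow_succ' u, show 2 * i * (l + 1) = 2 * i + 2 * i * l by ring, pow_add k]
          simp only [mul_assoc]
  let val : ℕ → ℕ → ℕ → G := fun i j l => h ^ i * k ^ j * u ^ l
  let S : Submonoid G :=
    { carrier := {g | ∃ i j l, g = val i j l}
      one_mem' := ⟨0, 0, 0, by simp [val]⟩
      mul_mem' := by
        rintro _ _ ⟨i, j, l, rfl⟩ ⟨i', j', l', rfl⟩
        refine ⟨i + i', j + 2 * i' * l + j', l + l', ?_⟩
        simp only [val]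
        calc h ^ i * k ^ j * u ^ l * (h ^ i' * k ^ j' * u ^ l')
            = h ^ i * k ^ j * (u ^ l * h ^ i') * k ^ j' * u ^ l' := by simp only [mul_assoc]
          _ = h ^ i * (k ^ j * h ^ i') * k ^ (2 * i' * l) * (u ^ l * k ^ j') * u ^ l' := by
            rw [hul]; simp only [mul_assoc]
          _ = h ^ i * (h ^ i' * k ^ j) * k ^ (2 * i' * l) * (k ^ j' * u ^ l) * u ^ l' := by
            rw [(chk.symm.pow_pow j i').eq, (cuk.pow_pow l j').eq]
          _ = _ := by simp only [pow_add, mul_assoc] }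
  let T : Subgroup G :=
    { S with
      inv_mem' := by
        intro x hx
        have e : x⁻¹ = x ^ (orderOf x - 1) := inv_eq_of_mul_eq_one_right (by
          rw [← pow_succ', Nat.sub_add_cancel (orderOf_pos x), pow_orderOf_eq_one])
        rw [e]
        exact S.pow_mem hx _ }
  have hoh : orderOf h = 11 := orderOf_eq_prime hh (fun e => rep_h_ne ((hr _ _).1 (by
    rw [show r eh = 1 from e, map_one])))
  have hok : orderOf k = 11 := orderOf_eq_prime hk (fun e => rep_k_ne
    ((hr _ _).1 (e.trans (map_one r).symm)))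
  have hou : orderOf u = 11 := orderOf_eq_prime hu (fun e => rep_su_notin 0 (by norm_num) 0
    (by norm_num) ((hr _ _).1 (by rw [show r su = 1 from e]; simp)))
  have hval : ∀ i j l : ℕ, val i j l = val (i % 11) (j % 11) (l % 11) := fun i j l => by
    have e1 : h ^ i = h ^ (i % 11) := by rw [← hoh, pow_mod_orderOf]
    have e2 : k ^ j = k ^ (j % 11) := by rw [← hok, pow_mod_orderOf]
    have e3 : u ^ l = u ^ (l % 11) := by rw [← hou, pow_mod_orderOf]
    simp only [val]; rw [e1, e2, e3]
  have hkh : ∀ j < 11, 0 < j → ∀ i, k ^ j ≠ h ^ i := by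
    intro j hj hj0 i e
    obtain ⟨m, hm⟩ : ∃ m : ℕ, j * m % 11 = 1 := by
      have : ∀ j < 11, 0 < j → ∃ m < 11, j * m % 11 = 1 := by decide
      obtain ⟨m, -, hm⟩ := this j hj hj0
      exact ⟨m, hm⟩
    refine rep_sk_notin (i * m % 11) (Nat.mod_lt _ (by norm_num)) ((hr _ _).1 ?_)
    have e2 := congrArg (· ^ m) e
    simp only [← pow_mul] at e2
    rw [← pow_mod_orderOf k, hok, hm, pow_one, ← pow_mod_orderOf h, hoh] at e2
    rw [map_pow]; exact e2
  have hinj : Function.Injective fun q : Fin 11 × Fin 11 × Fin 11 =>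
      (⟨val q.1 q.2.1 q.2.2, q.1, q.2.1, q.2.2, rfl⟩ : T) := by
    rintro ⟨i, j, l⟩ ⟨i', j', l'⟩ e
    have e' : val i j l = val i' j' l' := congrArg Subtype.val e
    simp only [val] at e'
    have key : ∀ a b c d m : ℕ, 0 < m → m < 11 → h ^ a * k ^ b * u ^ m ≠ h ^ c * k ^ d := by
      intro a b c d m hm0 hm e1
      obtain ⟨q, hq⟩ : ∃ q : ℕ, m * q % 11 = 1 := by
        have : ∀ j < 11, 0 < j → ∃ q < 11, j * q % 11 = 1 := by decide
        obtain ⟨q, -, hq⟩ := this m hm hm0
        exact ⟨q, hq⟩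
      have e2 : u ^ m = h ^ (10 * a + c) * k ^ (10 * b + d) := by
        calc u ^ m = (h ^ a * k ^ b)⁻¹ * (h ^ a * k ^ b * u ^ m) := by simp [mul_assoc]
          _ = (h ^ a * k ^ b)⁻¹ * (h ^ c * k ^ d) := by rw [e1]
          _ = _ := by
            rw [inv_mul_eq_iff_eq_mul]
            calc h ^ c * k ^ d = h ^ (a + (10 * a + c)) * k ^ (b + (10 * b + d)) := by
                  rw [show a + (10 * a + c) = 11 * a + c by ring,
                    show b + (10 * b + d) = 11 * b + d by ring, pow_add, pow_add, pow_mul, pow_mul,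
                    hh, hk, one_pow, one_pow, one_mul, one_mul]
              _ = h ^ a * (h ^ (10 * a + c) * k ^ b) * k ^ (10 * b + d) := by
                  simp only [pow_add, mul_assoc]
              _ = h ^ a * (k ^ b * h ^ (10 * a + c)) * k ^ (10 * b + d) := by
                  rw [(chk.pow_pow (10 * a + c) b).eq]
              _ = _ := by simp only [mul_assoc]
      have e3 := congrArg (· ^ q) e2
      simp only [← pow_mul] at e3
      rw [← pow_mod_orderOf u, hou, hq, pow_one, (chk.pow_pow _ _).mul_pow, ← pow_mul, ← pow_mul,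
        ← pow_mod_orderOf h, hoh, ← pow_mod_orderOf k, hok] at e3
      refine rep_su_notin ((10 * a + c) * q % 11) (Nat.mod_lt _ (by norm_num : 0 < 11))
        ((10 * b + d) * q % 11) (Nat.mod_lt _ (by norm_num : 0 < 11)) ((hr _ _).1 ?_)
      rw [map_mul, map_pow, map_pow]
      exact e3
    have hl : (l : ℕ) = l' := by
      rcases lt_trichotomy (l : ℕ) l' with hlt | heq | hlt
      · refine absurd ?_ (key i' j' i j (l' - l) (by omega) (by omega))
        rw [pow_sub _ hlt.le, ← mul_assoc, ← e', mul_inv_cancel_right]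
      · exact heq
      · refine absurd ?_ (key i j i' j' (l - l') (by omega) (by omega))
        rw [pow_sub _ hlt.le, ← mul_assoc, e', mul_inv_cancel_right]
    rw [hl] at e'
    have e2 := mul_right_cancel e'
    have hj : (j : ℕ) = j' := by
      rcases lt_trichotomy (j : ℕ) j' with hlt | heq | hlt
      · refine absurd ?_ (hkh (j' - j) (by omega) (by omega) (10 * i' + i))
        rw [pow_sub _ hlt.le, pow_add, pow_mul]
        have : (h ^ 10) ^ (i' : ℕ) = (h ^ (i' : ℕ))⁻¹ := by
          rw [← pow_mul, eq_inv_iff_mul_eq_one, ← pow_add,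
            show 10 * (i' : ℕ) + i' = 11 * i' by ring, pow_mul, hh, one_pow]
        rw [this, eq_inv_mul_iff_mul_eq, ← mul_assoc, ← e2, mul_inv_cancel_right]
      · exact heq
      · refine absurd ?_ (hkh (j - j') (by omega) (by omega) (10 * i + i'))
        rw [pow_sub _ hlt.le, pow_add, pow_mul]
        have : (h ^ 10) ^ (i : ℕ) = (h ^ (i : ℕ))⁻¹ := by
          rw [← pow_mul, eq_inv_iff_mul_eq_one, ← pow_add,
            show 10 * (i : ℕ) + i = 11 * i by ring, pow_mul, hh, one_pow]
        rw [this, eq_inv_mul_iff_mul_eq, ← mul_assoc, e2, mul_inv_cancel_right]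
    rw [hj] at e2
    have hi : (i : ℕ) = i' :=
      pow_injOn_Iio_orderOf (by rw [Set.mem_Iio, hoh]; exact i.2)
        (by rw [Set.mem_Iio, hoh]; exact i'.2) (mul_right_cancel e2)
    rw [Prod.mk.injEq, Prod.mk.injEq]
    exact ⟨Fin.ext hi, Fin.ext hj, Fin.ext hl⟩
  have hsurj : Function.Surjective fun q : Fin 11 × Fin 11 × Fin 11 =>
      (⟨val q.1 q.2.1 q.2.2, q.1, q.2.1, q.2.2, rfl⟩ : T) := by
    rintro ⟨_, i, j, l, rfl⟩
    exact ⟨(⟨i % 11, Nat.mod_lt _ (by norm_num)⟩, ⟨j % 11, Nat.mod_lt _ (by norm_num)⟩,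
      ⟨l % 11, Nat.mod_lt _ (by norm_num)⟩), Subtype.ext (hval i j l).symm⟩
  have hT : Nat.card T = 1331 := by
    rw [← Nat.card_congr (Equiv.ofBijective _ ⟨hinj, hsurj⟩)]
    simp
  exact hT ▸ T.card_subgroup_dvd_card

end CfsgLib.Spor.J4Lower
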