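import Cfsg.Agent.Lib.Spor.J4Lower.ImageH
import Cfsg.Agent.Lib.Spor.J4Lower.Orders

/-!
The image of `J4` in degree 112 has order divisible by `86775571046077562880`; so an upper bound of
this size gives the exact order and faithfulness.
-/

set_option autoImplicit false
set_option maxRecDepth 100000

namespace CfsgLib.Spor.J4Lower

open Cfsg.Spor CfsgLib.Spor.J4Rep CfsgLib.Spor.J4Out

theorem lcm_eq : Nat.lcm (2048 * 244823040) (Nat.lcm 1331 (Nat.lcm 29 (Nat.lcm 31 (Nat.lcm 37 43)))) =
    86775571046077562880 := by norm_num [Nat.lcm]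

theorem rep_ef_ne : rep ef ≠ rep 1 := img_f.ne Img.one (by decide +kernel)

/-- a group with the same kernel as the representation has order divisible by the order of `J4` -/
theorem dvd_natCard {G : Type*} [Group G] [Finite G] (r : J4 →* G)
    (hr : ∀ u w : J4, r u = r w ↔ rep u = rep w) : 86775571046077562880 ∣ Nat.card G := by
  have hef : r ef ≠ 1 := fun h => rep_ef_ne ((hr _ _).1 (h.trans (map_one r).symm))
  have hx : r (wval [0]) ≠ 1 := fun h => rep_x_ne_one (by
    rw [wval_nil]; exact (hr _ _).1 (h.trans (map_one r).symm))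
  rw [← lcm_eq]
  exact Nat.lcm_dvd (card_dvd r (fun u w h => (hr u w).2 h) hef hx) (Nat.lcm_dvd
    (eleven_cube_dvd r hr) (Nat.lcm_dvd (prime_dvd r hr (by norm_num) rep_w29 rep_w29_ne)
      (Nat.lcm_dvd (prime_dvd r hr (by norm_num) rep_w31 rep_w31_ne)
        (Nat.lcm_dvd (prime_dvd r hr (by norm_num) rep_w37 rep_w37_ne)
          (prime_dvd r hr (by norm_num) rep_w43 rep_w43_ne)))))

/-- the image in degree 112 has order divisible by the order of `J4` -/
theorem dvd_natCard_range : 86775571046077562880 ∣ Nat.card rep.range := by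
  refine dvd_natCard rep.rangeRestrict fun u w => ?_
  exact ⟨fun h => congrArg Subtype.val h, fun h => Subtype.ext h⟩

theorem natCard_and_injective [Finite J4] (h : Nat.card J4 ≤ 86775571046077562880) :
    Nat.card J4 = 86775571046077562880 ∧ Function.Injective rep := by
  have h1 : 86775571046077562880 ≤ Nat.card rep.range :=
    Nat.le_of_dvd Nat.card_pos dvd_natCard_range
  have h2 : Nat.card rep.range ≤ Nat.card J4 :=
    Nat.card_le_card_of_surjective _ rep.rangeRestrict_surjective
  have e : Nat.card J4 = 86775571046077562880 := le_antisymm h (h1.trans h2)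
  refine ⟨e, ?_⟩
  have hb := rep.rangeRestrict_surjective.bijective_of_nat_card_le (by omega)
  exact fun u w huw => hb.1 (Subtype.ext huw)

end CfsgLib.Spor.J4Lower
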