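import Cfsg.Agent.Lib.Spor.J4Out.Kit
import Cfsg.Agent.Lib.Spor.J4Lower.Inverse
import Cfsg.Agent.Lib.Spor.MathieuSimple

/-!
In any finite quotient of `J4` through which the representation of degree 112 factors, the image of
`2^11:M24` has order `2^11·|M24|`.
-/

set_option autoImplicit false
set_option maxRecDepth 100000

namespace CfsgLib.Spor.J4Lower

open Cfsg.Spor CfsgLib.Spor.J4Rep CfsgLib.Spor.J4Out

/-- iterating the shift -/
def iterA (c : ℕ) : ℕ → ℕ
  | 0 => c
  | k + 1 => xorL maskA (iterA c k)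

/-- iterates computed in a chain -/
def chainA : ℕ → ℕ → List ℕ
  | 0, _ => []
  | n + 1, c => c :: chainA n (xorL maskA c)

theorem iterA_succ' (c : ℕ) : ∀ k, iterA (xorL maskA c) k = iterA c (k + 1)
  | 0 => rfl
  | k + 1 => by rw [iterA, iterA_succ' c k]; rfl

theorem chainA_eq : ∀ (n c : ℕ), chainA n c = (List.range n).map (iterA c)
  | 0, _ => rfl
  | n + 1, c => by
    rw [chainA, chainA_eq n, List.range_succ_eq_map, List.map_cons, List.map_map]
    exact congrArg (c :: ·) (List.map_congr_left fun k _ => iterA_succ' c k)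

/-- check the table from the mask `c` on -/
def checkTab : ℕ → List ℕ → Bool
  | _, [] => true
  | c, v :: vs => (Nat.beq c 0 || Nat.beq (xorL (chainA 11 c) v) 1) && checkTab (c + 1) vs

theorem checkTab_sound : ∀ (l : List ℕ) (s : ℕ), checkTab s l = true → ∀ i < l.length,
    0 < s + i → xorL (chainA 11 (s + i)) (l.getD i 0) = 1
  | [], _, _, i, hi, _ => absurd hi (Nat.not_lt_zero i)
  | v :: vs, s, h, i, hi, hpos => by
    rw [checkTab, Bool.and_eq_true, Bool.or_eq_true] at h
    rcases i with _ | i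
    · rcases h.1 with h1 | h1
      · have := Nat.eq_of_beq_eq_true h1
        omega
      · simpa using Nat.eq_of_beq_eq_true h1
    · have := checkTab_sound vs (s + 1) h.2 i (by simpa using hi) (by omega)
      rw [show s + (i + 1) = s + 1 + i by omega]
      simpa using this

theorem checkTab_true : checkTab 0 invTab = true ∧ invTab.length = 2048 := by decide +kernel

theorem invTab_ok (c : ℕ) (hc : c < 2048) (hpos : 0 < c) :
    xorL ((List.range 11).map (iterA c)) (invTab.getD c 0) = 1 := by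
  have := checkTab_sound invTab 0 checkTab_true.1 c (checkTab_true.2 ▸ hc) (by omega)
  rwa [Nat.zero_add, chainA_eq] at this

variable {G : Type*} [Group G] (r : J4 →* G)

/-- the images of the basis of `2^11` -/
def fG : List G := fList.map r

theorem map_prodM : ∀ (l : List J4) (c : ℕ), r (prodM l c) = prodM (l.map r) c
  | [], _ => map_one r
  | f :: l, c => by
    rw [List.map_cons, prodM, prodM, map_mul, map_prodM l]
    cases Nat.beq (c % 2) 1 <;> simp

theorem map_prod_fList (c : ℕ) : r (prodM fList c) = prodM (fG r) c := map_prodM r fList c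

variable (hr : ∀ u w : J4, rep u = rep w → r u = r w)
include hr

theorem fG_sq : ∀ f ∈ fG r, f * f = 1 := by
  intro f hf
  obtain ⟨g, hg, rfl⟩ := List.mem_map.1 hf
  obtain ⟨i, hi, rfl⟩ := List.mem_map.1 hg
  rw [← map_mul, hr _ _ (rep_f2 i (List.mem_range.1 hi)), map_one]

theorem fG_comm : ∀ f ∈ fG r, ∀ g ∈ fG r, f * g = g * f := by
  intro f hf g hg
  obtain ⟨f', hf', rfl⟩ := List.mem_map.1 hf
  obtain ⟨g', hg', rfl⟩ := List.mem_map.1 hg
  obtain ⟨i, hi, rfl⟩ := List.mem_map.1 hf'
  obtain ⟨j, hj, rfl⟩ := List.mem_map.1 hg'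
  rw [← map_mul, ← map_mul, hr _ _ (rep_fcomm i (List.mem_range.1 hi) j (List.mem_range.1 hj))]

theorem conj_fG {g : J4} {L : List ℕ} (hlen : L.length = 11)
    (h : ∀ i < 11, r (g * (ea ^ i * ef * (ea ^ i)⁻¹) * g⁻¹) = r (prodM fList (L.getD i 0)))
    (c : ℕ) : r g * prodM (fG r) c * (r g)⁻¹ = prodM (fG r) (xorL L c) := by
  refine conj_prodM (fG_sq r hr) (fG_comm r hr) ?_ c
  refine List.ext_getElem (by simp [fG, fList, hlen]) fun i h1 h2 => ?_
  have hi : i < 11 := by simpa [fG, fList] using h1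
  simp only [List.getElem_map, fG, fList, List.getElem_range]
  have e := h i hi
  rw [List.getD_eq_getElem?_getD, List.getElem?_eq_getElem (by omega), Option.getD_some, map_mul,
    map_mul, map_inv, map_prod_fList] at e
  exact e

theorem conjX' (c : ℕ) : r (wval [0]) * prodM (fG r) c * (r (wval [0]))⁻¹ =
    prodM (fG r) (xorL maskX c) := conj_fG r hr rfl (fun i hi => hr _ _ (rep_conjX i hi)) c

theorem conjY' (c : ℕ) : r (wval [1]) * prodM (fG r) c * (r (wval [1]))⁻¹ =
    prodM (fG r) (xorL maskY c) := conj_fG r hr rfl (fun i hi => hr _ _ (rep_conjY i hi)) c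

theorem conjA' (c : ℕ) : r ea * prodM (fG r) c * (r ea)⁻¹ = prodM (fG r) (xorL maskA c) :=
  conj_fG r hr rfl (fun i hi => by
    rw [map_mul, map_inv, mul_inv_eq_iff_eq_mul, ← map_mul]
    exact hr _ _ (rep_conjA i hi)) c

omit hr in
theorem prodM_one : prodM (fG r) 1 = r ef := by
  rw [fG, fList, show List.range 11 = 0 :: (List.range 10).map Nat.succ from
    List.range_succ_eq_map, List.map_cons, List.map_cons, prodM, show (1 : ℕ) / 2 = 0 from rfl,
    prodM_zero]
  simp

variable (hef : r ef ≠ 1)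
include hef

theorem prodM_eq_one {c : ℕ} (hc : c < 2048) (h : prodM (fG r) c = 1) : c = 0 := by
  by_contra hne
  have hit : ∀ k, prodM (fG r) (iterA c k) = 1 := by
    intro k
    induction k with
    | zero => exact h
    | succ k ih => rw [iterA, ← conjA' r hr, ih, mul_one, mul_inv_cancel]
  refine hef ?_
  rw [← prodM_one r, ← invTab_ok c hc (Nat.pos_of_ne_zero hne),
    ← prodM_masks (fG_sq r hr) (fG_comm r hr)]
  have hgen : ∀ (L : List ℕ) (d : ℕ), (∀ m ∈ L, prodM (fG r) m = 1) →
      prodM (L.map (prodM (fG r))) d = 1 := by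
    intro L
    induction L with
    | nil => intro d _; rfl
    | cons m L ih =>
      intro d hd
      rw [List.map_cons, prodM, ih _ fun x hx => hd x (List.mem_cons_of_mem _ hx),
        hd m List.mem_cons_self]
      simp
  refine hgen _ _ fun m hm => ?_
  obtain ⟨k, -, rfl⟩ := List.mem_map.1 hm
  exact hit k

theorem prodM_inj {c d : ℕ} (hc : c < 2048) (hd : d < 2048)
    (h : prodM (fG r) c = prodM (fG r) d) : c = d := by
  have e : prodM (fG r) (c ^^^ d) = 1 := by
    rw [← prodM_mul (fG r) c d (fG_sq r hr) (fG_comm r hr), h,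
      prodM_mul (fG r) d d (fG_sq r hr) (fG_comm r hr), Nat.xor_self, prodM_zero]
  exact Nat.xor_eq_zero_iff.1 (prodM_eq_one r hr hef (Nat.xor_lt_two_pow (n := 11) hc hd) e)

omit hef in
theorem normal_rho (m : Cfsg.M24) : ∀ c < 2048, ∃ d < 2048,
    r (rho m) * prodM (fG r) c * (r (rho m))⁻¹ = prodM (fG r) d := by
  have htop : m ∈ Subgroup.closure ({CfsgLib.Spor.J4.M24Iso.ga, CfsgLib.Spor.J4.M24Iso.gb} :
      Set Cfsg.M24) := CfsgLib.Spor.J4.M24Iso.gen_top ▸ Subgroup.mem_top m
  rw [← Subgroup.mem_toSubmonoid, Subgroup.closure_toSubmonoid_of_finite] at htop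
  induction htop using Submonoid.closure_induction_left with
  | one => exact fun c hc => ⟨c, hc, by simp⟩
  | mul_left s hs t _ ih =>
    intro c hc
    obtain ⟨d, hd, e⟩ := ih c hc
    rcases hs with rfl | rfl
    · refine ⟨xorL maskX d, xorL_lt (n := 11) _ (masks_lt maskX (by simp)), ?_⟩
      rw [← conjX' r hr, ← e, map_mul, map_mul, rho, CfsgLib.Spor.J4.M24Iso.toHom_ga]
      group
    · refine ⟨xorL maskY d, xorL_lt (n := 11) _ (masks_lt maskY (by simp)), ?_⟩
      rw [← conjY' r hr, ← e, map_mul, map_mul, rho, CfsgLib.Spor.J4.M24Iso.toHom_gb]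
      group

variable (hx : r (wval [0]) ≠ 1)
include hx

theorem eq_one_of_mem {m : Cfsg.M24} {c : ℕ} (hc : c < 2048) (h : r (rho m) = prodM (fG r) c) :
    m = 1 := by
  have := CfsgLib.Spor.isSimpleGroup_M24
  let K : Subgroup Cfsg.M24 :=
    { carrier := {m | ∃ c < 2048, r (rho m) = prodM (fG r) c}
      one_mem' := ⟨0, by norm_num, by rw [map_one, map_one, prodM_zero]⟩
      mul_mem' := by
        rintro a b ⟨c, hc, ea'⟩ ⟨d, hd, eb'⟩
        exact ⟨c ^^^ d, Nat.xor_lt_two_pow (n := 11) hc hd, by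
          rw [map_mul, map_mul, ea', eb', prodM_mul (fG r) c d (fG_sq r hr) (fG_comm r hr)]⟩
      inv_mem' := by
        rintro a ⟨c, hc, ea'⟩
        refine ⟨c, hc, ?_⟩
        rw [map_inv, map_inv, ea']
        refine inv_eq_of_mul_eq_one_right ?_
        rw [prodM_mul (fG r) c c (fG_sq r hr) (fG_comm r hr), Nat.xor_self, prodM_zero] }
  have hKn : K.Normal := ⟨by
    rintro a ⟨c, hc, ea'⟩ g
    obtain ⟨d, hd, e⟩ := normal_rho r hr g c hc
    exact ⟨d, hd, by rw [map_mul, map_mul, map_inv, map_mul, map_mul, map_inv, ea', e]⟩⟩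
  have hker : Function.Injective (fun m : Cfsg.M24 => r (rho m)) := by
    rcases (inferInstance : (r.comp rho).ker.Normal).eq_bot_or_eq_top with h | h
    · exact (MonoidHom.ker_eq_bot_iff _).1 h
    · exfalso
      have h1 : (r.comp rho) CfsgLib.Spor.J4.M24Iso.ga = 1 :=
        MonoidHom.mem_ker.1 (h ▸ Subgroup.mem_top _)
      rw [MonoidHom.comp_apply, rho, CfsgLib.Spor.J4.M24Iso.toHom_ga] at h1
      exact hx h1
  rcases hKn.eq_bot_or_eq_top with hK | hK
  · exact Subgroup.mem_bot.1 (hK ▸ (⟨c, hc, h⟩ : m ∈ K))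
  · exfalso
    have hall : ∀ m : Cfsg.M24, ∃ c < 2048, r (rho m) = prodM (fG r) c := fun m =>
      (hK ▸ Subgroup.mem_top m : m ∈ K)
    choose f hf he using hall
    have := Nat.card_le_card_of_injective (fun m => (⟨f m, hf m⟩ : Fin 2048)) fun a b e => by
      have e' : f a = f b := congrArg Fin.val e
      exact hker (by simp only [he, e'])
    rw [CfsgLib.Spor.natCard_M24] at this
    simp at this

theorem hImg_injective :
    Function.Injective fun cm : Fin 2048 × Cfsg.M24 => prodM (fG r) cm.1.1 * r (rho cm.2) := by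
  rintro ⟨c, m⟩ ⟨d, n⟩ e
  simp only at e
  have e2 : r (rho (m * n⁻¹)) = prodM (fG r) (c.1 ^^^ d.1) := by
    rw [map_mul, map_mul, map_inv, map_inv, ← prodM_mul (fG r) c.1 d.1 (fG_sq r hr) (fG_comm r hr),
      mul_inv_eq_iff_eq_mul, mul_assoc, ← e, ← mul_assoc,
      prodM_mul (fG r) c.1 c.1 (fG_sq r hr) (fG_comm r hr), Nat.xor_self, prodM_zero, one_mul]
  have hm : m = n := mul_inv_eq_one.1
    (eq_one_of_mem r hr hef hx (Nat.xor_lt_two_pow (n := 11) c.2 d.2) e2)
  subst hm
  exact Prod.ext (Fin.ext (prodM_inj r hr hef c.2 d.2 (mul_right_cancel e))) rfl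

/-- the order of `2^11:M24` divides the order of the group -/
theorem card_dvd : 2048 * 244823040 ∣ Nat.card G := by
  let S : Subgroup G :=
    { carrier := Set.range fun cm : Fin 2048 × Cfsg.M24 => prodM (fG r) cm.1.1 * r (rho cm.2)
      one_mem' := ⟨(⟨0, by norm_num⟩, 1), by simp [prodM_zero]⟩
      mul_mem' := by
        rintro _ _ ⟨⟨c, m⟩, rfl⟩ ⟨⟨d, n⟩, rfl⟩
        obtain ⟨d', hd', e⟩ := normal_rho r hr m d.1 d.2
        refine ⟨(⟨c.1 ^^^ d', Nat.xor_lt_two_pow (n := 11) c.2 hd'⟩, m * n), ?_⟩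
        simp only [← prodM_mul (fG r) c.1 d' (fG_sq r hr) (fG_comm r hr), map_mul, ← e]
        group
      inv_mem' := by
        rintro _ ⟨⟨c, m⟩, rfl⟩
        obtain ⟨d', hd', e⟩ := normal_rho r hr m⁻¹ c.1 c.2
        refine ⟨(⟨d', hd'⟩, m⁻¹), ?_⟩
        have hinv : (prodM (fG r) c.1)⁻¹ = prodM (fG r) c.1 := inv_eq_of_mul_eq_one_right (by
          rw [prodM_mul (fG r) c.1 c.1 (fG_sq r hr) (fG_comm r hr), Nat.xor_self, prodM_zero])
        simp only [mul_inv_rev, hinv, ← e, map_inv, inv_inv]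
        group }
  have hS : Nat.card S = 2048 * 244823040 := by
    show Nat.card (Set.range _) = _
    rw [Nat.card_range_of_injective (hImg_injective r hr hef hx), Nat.card_prod,
      CfsgLib.Spor.natCard_M24]
    simp
  exact hS ▸ S.card_subgroup_dvd_card

end CfsgLib.Spor.J4Lower
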